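import Cfsg.Agent.H172.Rg.Tools
import Cfsg.Agent.H83.Rg.KextF
import Cfsg.Agent.H83.Rg.KextS
import Cfsg.Agent.H729.Rg.SixFin
import Cfsg.Agent.H115.Rg.KExtEight
import Cfsg.Agent.H655.Rg.KExt4

/-!
# S3691: groups normalising a quadratic field (helper172)

* `minus_kx` : minus type, `m` odd
* `plus_even_no` : plus type, `m` even, the last case
-/

set_option autoImplicit false
set_option linter.unusedSectionVars false

namespace Cfsg.Agent.H172.Rg

open Module QuadraticMap Cfsg Cfsg.Geo Cfsg.Agent.LieClassical.OrthCore Cfsg.Agent.LieClassical.OrthTrans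
  Cfsg.Agent.H454.Reg Cfsg.Agent.H884.El Cfsg.Agent.H955 Cfsg.Agent.H954.TSing Cfsg.Agent.H193.Dg Cfsg.Agent.H851.Dg
  Cfsg.Agent.H449.Reg Cfsg.Agent.H964.Rg
open Cfsg.Agent.H951 (fx cm Inv)
open Cfsg.Agent.H278.Cov (Red Ext Num)
open Cfsg.Agent.LieClassical.OrthFinite (glEquiv glEquiv_apply)
open scoped MatrixGroups Matrix

universe u v

section zero

variable {ι : Type} [Fintype ι] [DecidableEq ι] {F : Type} [Field F] [Fintype F] {Q : QuadraticForm F (ι → F)}
variable {G : Type u} [Group G] [Finite G] {T : Subgroup G} [T.Normal] {hG : Good Q} {eT : T ≃* POmega F (⇑Q)}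
  {hI : Ind (eP hG eT)} {X Y : Subgroup G} {p f m N : ℕ}

/-- the factor as a group of linear maps -/
noncomputable def ca (eT : T ≃* POmega F (⇑Q)) (X : Subgroup G) : Subgroup ((ι → F) ≃ₗ[F] (ι → F)) :=
  (preG eT X).map (glEquiv ι F).toMonoidHom

theorem card_ca : Nat.card (ca eT X) = Nat.card (preG eT X) :=
  Subgroup.card_map_of_injective (glEquiv ι F).injective

theorem ca_le : ca eT X ≤ O Q := by
  rintro _ ⟨x, hx, rfl⟩
  rw [mem_O]
  intro v
  change Q (glEquiv ι F x v) = Q v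
  rw [glEquiv_apply]
  exact LieClassical.OrthFinite.mem_isometryGroup_iff.1 (preG_le hx) v

theorem ca_ext (hE : Ex2 (preG eT X)) : AExt 2 (ca eT X) := by
  obtain ⟨K, hK, hle⟩ := hE
  exact aext_mx Nat.prime_two hK hle

theorem ca_irr (hirr : ¬ Red (preG eT X)) (W : Submodule F (ι → F)) (hW : ∀ a ∈ ca eT X, ∀ w ∈ W, a w ∈ W) :
    W = ⊥ ∨ W = ⊤ := by
  by_contra hc
  rw [not_or] at hc
  refine hirr ⟨W, hc.1, hc.2, fun x hx => H884.OmegaGL.mem_subspaceStabilizer.2 fun w hw => ?_⟩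
  exact hW _ ⟨x, hx, rfl⟩ w hw

theorem ca_elt (h : Cx hI X Y p f m N) {k r a : ℕ} (hr : PP p (f * k) r) (hk : 2 ≤ k) (hmk : m < k)
    (hd : r ^ a ∣ Nat.card (X.subgroupOf T)) : ∃ g ∈ ca eT X, orderOf g = r ^ a := by
  obtain ⟨g, hg, ho⟩ := h.elt hr hk hmk hd
  exact ⟨glEquiv ι F g, ⟨g, hg, rfl⟩, by rw [MulEquiv.orderOf_eq]; exact ho⟩

/-- (J1) MINUS, `m` odd -/
theorem minus_kx (hP5 : H659.CovCore.S5948Stmt.{0}) (h : Cx hI X Y p f m (2 * m)) (hm : 5 ≤ m) (hmo : Odd m)
    (hq5 : m = 5 → 5 ≤ p ^ f) (hq7 : m = 7 → 3 ≤ p ^ f) (hB : Big T X p f (2 * m)) (hE : Ex2 (preG eT X))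
    (hN : m.Prime → ∃ N, N ∣ Nat.card (preG eT X) ∧ N.Coprime ((p ^ f) ^ (2 * m) - 1) ∧ ¬ N ∣ 2 * m)
    (ht : ∃ t, PP (Nat.card F) (m - 1) t ∧ t ∣ Nat.card (preG eT X)) :
      (∀ t, PP (Nat.card F) (2 * m - 4) t → t ∣ Nat.card (preG eT X)) ∨
      (∀ t, PP (Nat.card F) (2 * m - 2) t → t ∣ Nat.card (preG eT X)) := by
  have hK := ca_ext hE
  have hA : ca eT X ≤ O Q := ca_le
  obtain ⟨r, a, hr, hb, hd, hdX⟩ := hB
  obtain ⟨g, hg, ho⟩ := ca_elt h hr (by omega) (by omega) hdX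
  rw [← card_ca, h.card] at *
  have hn := h.finrank_V
  obtain ⟨t, ht, htA⟩ := ht
  rcases (show m = 5 ∨ m = 7 ∨ m = 9 ∨ 11 ≤ m by obtain ⟨j, rfl⟩ := hmo; omega) with rfl | rfl | rfl | h11
  · exact H83.Rg.kext_five (hq5 rfl) hn hG.nondeg hA hK h.prime h.fcard hr hg ho hb hd (hN (by norm_num))
  · exact H83.Rg.kext_seven (hq7 rfl) hn hG.nondeg hA hK h.prime h.fcard hr hg ho hb hd (hN (by norm_num))
  · exact H83.Rg.kext_nine hn hG.nondeg hA hK h.prime h.fcard hr hg ho hb hd ht htA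
  · exact H655.Rg.kext_odd' hP5 hmo h11 hn hG.nondeg hA hK h.prime h.fcard hr hg ho hb hd ht htA hN

/-- (J2) PLUS, `m` even: the last case -/
theorem plus_even_no (hP5 : H659.CovCore.S5948Stmt.{0}) (h : Cx hI X Y p f m (2 * m - 2)) (hm : 6 ≤ m) (hme : Even m)
    (hq6 : m = 6 → 3 ≤ p ^ f) (hB : Big T X p f (2 * m - 2)) (hirr : ¬ Red (preG eT X)) (hE : Ex2 (preG eT X))
    (hY : ∀ e t, Even e → 2 ≤ e → e < 2 * m - 2 → PP (Nat.card F) e t → t ∣ Nat.card (preG eT Y))
    (hsix : m = 6 → ∀ r, PP p (f * 6) r → (Nat.card T).factorization r ≤ 2 * ((p ^ f) ^ 6 - 1).factorization r) : False := by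
  have hK := ca_ext hE
  have hA : ca eT X ≤ O Q := ca_le
  have hir := ca_irr hirr
  obtain ⟨r, a, hr, hb, hd, hdX⟩ := hB
  obtain ⟨g, hg, ho⟩ := ca_elt h hr (by omega) (by omega) hdX
  have hn := h.finrank_V
  -- a prime dividing both orders
  have key : ∀ e, Even e → 7 ≤ e → m < e → e < 2 * m - 2 → ¬ ∀ t, PP (p ^ f) e t → t ∣ Nat.card (ca eT X) := by
    intro e he he7 hme' he2 hall
    obtain ⟨t, ht⟩ := exists_pp (q := Nat.card F) (e := e) Finite.one_lt_card (by omega) (by omega)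
    have ht2 : t ≠ 2 := by
      have := ht.lt (by omega)
      omega
    have h1 := hall t (by rw [← h.card]; exact ht)
    rw [card_ca] at h1
    have h2 := hY e t he (by omega) he2 ht
    have h3 := pow_dvd_of_preG (a := 1) h.data ht.prime ht2 (by rw [pow_one]; exact h1)
    have h4 := pow_dvd_of_preG (a := 1) h.data ht.prime ht2 (by rw [pow_one]; exact h2)
    rw [pow_one] at h3 h4
    exact h.not_both ht (by omega) hme' h3 h4
  rcases (show m = 6 ∨ m = 8 ∨ 10 ≤ m by obtain ⟨j, rfl⟩ := hme; omega) with rfl | rfl | h10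
  · rcases H729.Rg.kext_six (hq6 rfl) hn hG.nondeg hA hir hK h.prime h.fcard hr hg ho hb hd with h1 | h1
    · exact key 8 (by decide) (by norm_num) (by norm_num) (by norm_num) h1
    · obtain ⟨t, ht⟩ : ∃ t, PP p (f * 6) t := by
        have hpos := h.pos
        refine exists_pp h.prime.two_le (by omega) ?_
        rintro ⟨rfl, h6⟩
        obtain rfl : f = 1 := by omega
        have := hq6 rfl
        norm_num at this
      have ht' : PP (p ^ f) 6 t := by
        have := h.pp ht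
        rwa [h.card] at this
      have ht2 : t ≠ 2 := by
        have := ht'.lt (by omega)
        omega
      set b := ((p ^ f) ^ 6 - 1).factorization t with hb'
      have h2 := h1 t b ht' (Nat.ordProj_dvd _ _)
      rw [card_ca] at h2
      have h3 := pow_dvd_of_preG h.data ht.prime ht2 h2
      have h4 := hY 6 t (by decide) (by norm_num) (by norm_num) (by rw [h.card]; exact ht')
      have h5 := pow_dvd_of_preG (a := 1) h.data ht.prime ht2 (by rw [pow_one]; exact h4)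
      have hX0 : Nat.card (X.subgroupOf T) ≠ 0 := Nat.card_pos.ne'
      have hY0 : Nat.card (Y.subgroupOf T) ≠ 0 := Nat.card_pos.ne'
      rw [ht.prime.pow_dvd_iff_le_factorization hX0] at h3
      rw [ht.prime.pow_dvd_iff_le_factorization hY0] at h5
      have h6 := h.fac.val_eq (h.out 6 t (by norm_num) ht)
      have h7 := hsix rfl t ht
      omega
  · rcases H115.Rg.kext_eight hn hG.nondeg hA hir hK h.prime h.fcard hr hg ho hb hd with h1 | h1
    · exact key 12 (by decide) (by norm_num) (by norm_num) (by norm_num) h1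
    · exact key 10 (by decide) (by norm_num) (by norm_num) (by norm_num) h1
  · rcases H655.Rg.kext_even' hP5 hme h10 hn hG.nondeg hA hir hK h.prime h.fcard hr hg ho (by omega) hd with h1 | h1
    · exact key (2 * m - 4) (by obtain ⟨j, rfl⟩ := hme; exact ⟨2 * j - 2, by omega⟩) (by omega) (by omega) (by omega) h1
    · exact key (2 * m - 6) (by obtain ⟨j, rfl⟩ := hme; exact ⟨2 * j - 3, by omega⟩) (by omega) (by omega) (by omega) h1

end zero

end Cfsg.Agent.H172.Rg
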