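import Cfsg.Agent.H964.Rg.Slo
import Cfsg.Agent.H851.Rl.List

/-!
# S3691: the factors as groups of linear maps (helper172)

* `aext_mx` : `AExt` for the image of a matrix group
* `pow_dvd_of_preG` : powers of odd primes dividing the order of the preimage of `X ∩ T` divide `|X ∩ T|`
* `ca` : the group of linear maps of a factor, with its properties
-/

set_option autoImplicit false
set_option linter.unusedSectionVars false

namespace Cfsg.Agent.H172.Rg

open Module QuadraticMap Cfsg Cfsg.Geo Cfsg.Agent.LieClassical.OrthCore Cfsg.Agent.LieClassical.OrthTrans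
  Cfsg.Agent.H454.Reg Cfsg.Agent.H884.El Cfsg.Agent.H955 Cfsg.Agent.H954.TSing Cfsg.Agent.H193.Dg Cfsg.Agent.H851.Dg
  Cfsg.Agent.H449.Reg Cfsg.Agent.H964.Rg
open Cfsg.Agent.H951 (fx cm Inv)
open Cfsg.Agent.H278.Cov (Red Ext Num)
open Cfsg.Agent.LieClassical.OrthFinite (glEquiv glEquiv_apply)
open scoped MatrixGroups Matrix

universe u v

section mx

variable {ι : Type} [Fintype ι] [DecidableEq ι] {F : Type} [Field F]

/-- `AExt` from a field normalised by a group of matrices -/
theorem aext_mx {s : ℕ} (hs : s.Prime) {H : Subgroup (GL ι F)} {K : Subalgebra F (Matrix ι ι F)}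
    (hK : IsFieldSubalgebra s K) (hle : H ≤ subalgebraNormalizer K) :
    AExt s (H.map (glEquiv ι F).toMonoidHom) := by
  let e : Fin (Fintype.card ι) ≃ ι := (Fintype.equivFin ι).symm
  let φ' : (ι → F) ≃ₗ[F] (Fin (Fintype.card ι) → F) := LinearEquiv.funCongrLeft F F e
  refine ⟨_, φ', K.map (Matrix.reindexAlgEquiv F F e.symm : Matrix ι ι F →ₐ[F] Matrix (Fin (Fintype.card ι)) (Fin (Fintype.card ι)) F), hs,
    Cfsg.Agent.H851.Rl.field_back e hK, ?_⟩
  have key : ∀ h : GL ι F, Matrix.reindexAlgEquiv F F e (H449.Reg.cj φ' (glEquiv ι F h) : Matrix (Fin (Fintype.card ι)) (Fin (Fintype.card ι)) F) =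
      (h : Matrix ι ι F) := by
    intro h
    apply Matrix.ext_of_mulVec_single
    intro i
    set v : ι → F := Pi.single i 1
    have h1 := H449.Reg.cj_apply φ' (glEquiv ι F h) (v ∘ e)
    have h2 : φ'.symm (v ∘ e) = v := by
      apply φ'.injective
      rw [φ'.apply_symm_apply]
      rfl
    rw [h2, glEquiv_apply] at h1
    funext k
    have h3 := congrFun h1 (e.symm k)
    have h4 : φ' ((h : Matrix ι ι F) *ᵥ v) (e.symm k) = ((h : Matrix ι ι F) *ᵥ v) k := by
      change ((h : Matrix ι ι F) *ᵥ v) (e (e.symm k)) = _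
      rw [e.apply_symm_apply]
    rw [h4] at h3
    rw [← h3]
    simp only [Matrix.mulVec, dotProduct]
    rw [← e.sum_comp]
    refine Finset.sum_congr rfl fun j _ => ?_
    simp [Matrix.coe_reindexAlgEquiv, Matrix.reindex_apply]
  have key2 : ∀ M : Matrix (Fin (Fintype.card ι)) (Fin (Fintype.card ι)) F,
      M ∈ K.map (Matrix.reindexAlgEquiv F F e.symm : Matrix ι ι F →ₐ[F] Matrix (Fin (Fintype.card ι)) (Fin (Fintype.card ι)) F) ↔
      Matrix.reindexAlgEquiv F F e M ∈ K := by
    intro M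
    constructor
    · rintro ⟨x, hx, rfl⟩
      have h2 : (Matrix.reindexAlgEquiv F F e) ((Matrix.reindexAlgEquiv F F e.symm) x) = x := by
        ext i j; simp [Matrix.coe_reindexAlgEquiv, Matrix.reindex_apply]
      change (Matrix.reindexAlgEquiv F F e) ((Matrix.reindexAlgEquiv F F e.symm) x) ∈ K
      rwa [h2]
    · intro h2
      refine ⟨_, h2, ?_⟩
      change (Matrix.reindexAlgEquiv F F e.symm) ((Matrix.reindexAlgEquiv F F e) M) = M
      ext i j; simp [Matrix.coe_reindexAlgEquiv, Matrix.reindex_apply]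
  rintro _ ⟨_, ⟨h, hh, rfl⟩, rfl⟩ k
  rw [key2, key2, map_mul, map_mul]
  have h1 := hle hh (Matrix.reindexAlgEquiv F F e k)
  have e1 : (((H449.Reg.cj φ').toMonoidHom ((glEquiv ι F).toMonoidHom h))⁻¹ : GL (Fin (Fintype.card ι)) F) =
      H449.Reg.cj φ' (glEquiv ι F h⁻¹) := by
    rw [map_inv, map_inv]
    rfl
  rw [e1, key]
  change _ ↔ Matrix.reindexAlgEquiv F F e (H449.Reg.cj φ' (glEquiv ι F h) : Matrix (Fin (Fintype.card ι)) (Fin (Fintype.card ι)) F) * _ * _ ∈ K
  rw [key]
  exact h1

end mx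

section pre

variable {ι : Type} [Fintype ι] [DecidableEq ι] {F : Type v} [Field F] [Finite F] {Q : QuadraticForm F (ι → F)}

theorem card_pre (M : Subgroup (POmega F (⇑Q))) :
    Nat.card (pre (⇑Q) M) = Nat.card (Subgroup.center (Omega F (⇑Q))) * Nat.card M := by
  have h1 : Nat.card (pre (⇑Q) M) =
      Nat.card (M.comap (QuotientGroup.mk' (Subgroup.center (Omega F (⇑Q))))) := by
    rw [pre, Subgroup.card_map_of_injective (Subgroup.subtype_injective _),
      Subgroup.card_map_of_injective (Subgroup.subtype_injective _)]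
  rw [h1]
  have h2 := Subgroup.index_comap_of_surjective M (QuotientGroup.mk'_surjective (Subgroup.center (Omega F (⇑Q))))
  have h3 := (M.comap (QuotientGroup.mk' (Subgroup.center (Omega F (⇑Q))))).card_mul_index
  have h4 := M.card_mul_index
  have h5 := (Subgroup.center (Omega F (⇑Q))).card_eq_card_quotient_mul_card_subgroup
  have h6 : 0 < M.index := Nat.pos_of_ne_zero Subgroup.index_ne_zero_of_finite
  rw [h2] at h3
  apply Nat.eq_of_mul_eq_mul_right h6
  rw [h3, h5, mul_assoc, h4, mul_comm]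

variable {G : Type u} [Group G] {T : Subgroup G} [T.Normal] {eT : T ≃* POmega F (⇑Q)} {X : Subgroup G}

theorem card_preG : Nat.card (preG eT X) = Nat.card (Subgroup.center (Omega F (⇑Q))) * Nat.card (X.subgroupOf T) := by
  rw [preG, card_pre, Subgroup.card_map_of_injective eT.injective]

/-- powers of odd primes -/
theorem pow_dvd_of_preG (hD : H390.Lift.Data Q) {t a : ℕ} (ht : t.Prime) (ht2 : t ≠ 2)
    (h : t ^ a ∣ Nat.card (preG eT X)) : t ^ a ∣ Nat.card (X.subgroupOf T) := by
  rw [card_preG] at h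
  have h1 : IsPGroup 2 (Subgroup.center (Omega F (⇑Q))) := by
    intro z
    refine ⟨1, ?_⟩
    apply Subtype.ext
    rw [pow_one]
    exact H390.Lift.center_sq hD _ z.2
  obtain ⟨n, hn⟩ := IsPGroup.iff_card.1 h1
  rw [hn] at h
  exact (Nat.Coprime.pow _ _ ((Nat.coprime_primes ht Nat.prime_two).2 ht2)).dvd_of_dvd_mul_left h

end pre

end Cfsg.Agent.H172.Rg
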